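import Mathlib

/-!
Abstract counting of the classes of short vectors, and the bound for families of pairwise
orthogonal or opposite vectors.
-/

set_option autoImplicit false

namespace Cfsg.Agent.Helper9.Classes

section ortho

variable {ι : Type*} [Fintype ι]

/-- the standard dot product. -/
def dot (x y : ι → ℤ) : ℤ := ∑ i, x i * y i

theorem dot_sum_right {κ : Type*} (t : Finset κ) (x : ι → ℤ) (g : κ → ℤ) (v : κ → ι → ℤ) :
    dot x (∑ k ∈ t, g k • v k) = ∑ k ∈ t, g k * dot x (v k) := by
  unfold dot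
  simp only [Finset.sum_apply, Pi.smul_apply, smul_eq_mul, Finset.mul_sum]
  rw [Finset.sum_comm]
  apply Finset.sum_congr rfl
  intro k _
  apply Finset.sum_congr rfl
  intro i _
  ring

theorem dot_self_pos {x : ι → ℤ} (hx : x ≠ 0) : 0 < dot x x := by
  unfold dot
  obtain ⟨i, hi⟩ : ∃ i, x i ≠ 0 := by
    by_contra h
    push Not at h
    exact hx (funext h)
  have h1 : 0 < x i * x i := by
    rcases lt_or_gt_of_ne hi with h | h
    · exact mul_pos_of_neg_of_neg h h
    · exact mul_pos h h
  exact lt_of_lt_of_le h1 (Finset.single_le_sum (f := fun i => x i * x i)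
    (fun j _ => mul_self_nonneg (x j)) (Finset.mem_univ i))

theorem linIndep_of_ortho {κ : Type*} [Fintype κ] (v : κ → ι → ℤ) (h0 : ∀ k, v k ≠ 0)
    (horth : ∀ j k, j ≠ k → dot (v j) (v k) = 0) : LinearIndependent ℤ v := by
  classical
  rw [Fintype.linearIndependent_iff]
  intro g hg j
  have h1 : dot (v j) (∑ k, g k • v k) = g j * dot (v j) (v j) := by
    rw [dot_sum_right, Finset.sum_eq_single j]
    · intro k _ hkj
      rw [horth j k (Ne.symm hkj), mul_zero]
    · intro h
      exact absurd (Finset.mem_univ j) h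
  rw [hg] at h1
  have h2 : dot (v j) (0 : ι → ℤ) = 0 := by
    unfold dot
    simp
  rw [h2] at h1
  have h3 := dot_self_pos (h0 j)
  rcases mul_eq_zero.mp h1.symm with h | h
  · exact h
  · omega

theorem card_le_of_ortho (s : Finset (ι → ℤ)) (h0 : ∀ y ∈ s, y ≠ 0)
    (horth : ∀ y ∈ s, ∀ y' ∈ s, y ≠ y' → dot y y' = 0) : s.card ≤ Fintype.card ι := by
  have hli : LinearIndependent ℤ (fun y : s => (y : ι → ℤ)) := by
    apply linIndep_of_ortho
    · intro k
      exact h0 k.1 k.2
    · intro j k hjk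
      exact horth j.1 j.2 k.1 k.2 (fun h => hjk (Subtype.ext h))
  have h1 := hli.finset_card_le_finrank
  rw [Module.finrank_pi] at h1
  exact h1

/-- a family of non-zero vectors, any two of which are equal, opposite or orthogonal. -/
theorem card_le_two_mul [LinearOrder ι] (s : Finset (ι → ℤ)) (h0 : ∀ y ∈ s, y ≠ 0)
    (horth : ∀ y ∈ s, ∀ y' ∈ s, y ≠ y' → y ≠ -y' → dot y y' = 0) :
    s.card ≤ 2 * Fintype.card ι := by
  classical
  have hP : (s.filter (fun y => (0 : Lex (ι → ℤ)) < toLex y)).card ≤ Fintype.card ι := by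
    apply card_le_of_ortho
    · intro y hy
      exact h0 y (Finset.mem_filter.mp hy).1
    · intro y hy y' hy' hne
      rw [Finset.mem_filter] at hy hy'
      have hne' : y ≠ -y' := by
        intro h
        have h3 : toLex y = -toLex y' := by rw [h]; rfl
        have h4 := hy.2
        rw [h3, neg_pos] at h4
        exact lt_asymm h4 hy'.2
      exact horth y hy.1 y' hy'.1 hne hne'
  have hN : (s.filter (fun y => toLex y < (0 : Lex (ι → ℤ)))).card ≤ Fintype.card ι := by
    apply card_le_of_ortho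
    · intro y hy
      exact h0 y (Finset.mem_filter.mp hy).1
    · intro y hy y' hy' hne
      rw [Finset.mem_filter] at hy hy'
      have hne' : y ≠ -y' := by
        intro h
        have h3 : toLex y = -toLex y' := by rw [h]; rfl
        have h4 := hy.2
        rw [h3, neg_lt_zero] at h4
        exact lt_asymm h4 hy'.2
      exact horth y hy.1 y' hy'.1 hne hne'
  have hsub : s ⊆ s.filter (fun y => (0 : Lex (ι → ℤ)) < toLex y) ∪
      s.filter (fun y => toLex y < (0 : Lex (ι → ℤ))) := by
    intro y hy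
    have hy0 : toLex y ≠ (0 : Lex (ι → ℤ)) := by
      intro h
      exact h0 y hy (toLex.injective h)
    rw [Finset.mem_union, Finset.mem_filter, Finset.mem_filter]
    rcases lt_or_gt_of_ne hy0 with h | h
    · exact Or.inr ⟨hy, h⟩
    · exact Or.inl ⟨hy, h⟩
  calc s.card ≤ _ := Finset.card_le_card hsub
    _ ≤ _ := Finset.card_union_le _ _
    _ ≤ 2 * Fintype.card ι := by omega

end ortho

section count

variable {V Q : Type*} [DecidableEq V] [Fintype Q] [DecidableEq Q]

/-- the abstract counting argument. -/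
theorem count_abs (cls : V → Q) (T0 T4 T6 T8 : Finset V) (hQ : Fintype.card Q = 2 ^ 24)
    (c0 : T0.card = 1) (c4 : T4.card = 196560) (c6 : T6.card = 16773120)
    (fib4 : ∀ c, (T4.filter (fun y => cls y = c)).card ≤ 2)
    (fib6 : ∀ c, (T6.filter (fun y => cls y = c)).card ≤ 2)
    (fib8 : ∀ c, (T8.filter (fun y => cls y = c)).card ≤ 48)
    (d04 : ∀ x ∈ T0, ∀ y ∈ T4, cls x ≠ cls y) (d06 : ∀ x ∈ T0, ∀ y ∈ T6, cls x ≠ cls y)
    (d08 : ∀ x ∈ T0, ∀ y ∈ T8, cls x ≠ cls y) (d46 : ∀ x ∈ T4, ∀ y ∈ T6, cls x ≠ cls y)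
    (d48 : ∀ x ∈ T4, ∀ y ∈ T8, cls x ≠ cls y) (d68 : ∀ x ∈ T6, ∀ y ∈ T8, cls x ≠ cls y) :
    T8.card ≤ 398034000 ∧ (T8.card = 398034000 →
      (∀ c : Q, ∃ x ∈ T0 ∪ T4 ∪ T6 ∪ T8, cls x = c) ∧
      ∀ x ∈ T8, (T8.filter (fun y => cls y = cls x)).card = 48) := by
  have i4 : T4.card ≤ 2 * (T4.image cls).card :=
    Finset.card_le_mul_card_image T4 2 (fun c _ => fib4 c)
  have i6 : T6.card ≤ 2 * (T6.image cls).card :=
    Finset.card_le_mul_card_image T6 2 (fun c _ => fib6 c)
  have i8 : T8.card ≤ 48 * (T8.image cls).card :=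
    Finset.card_le_mul_card_image T8 48 (fun c _ => fib8 c)
  have i0 : 1 ≤ (T0.image cls).card := by
    rw [Finset.one_le_card, Finset.image_nonempty, ← Finset.card_pos, c0]
    norm_num
  have hdis : ∀ (T T' : Finset V), (∀ x ∈ T, ∀ y ∈ T', cls x ≠ cls y) →
      Disjoint (T.image cls) (T'.image cls) := by
    intro T T' h
    rw [Finset.disjoint_left]
    intro c hc hc'
    obtain ⟨x, hx, rfl⟩ := Finset.mem_image.mp hc
    obtain ⟨y, hy, hyx⟩ := Finset.mem_image.mp hc'
    exact h x hx y hy hyx.symm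
  have hU : ((T0.image cls ∪ T4.image cls) ∪ T6.image cls ∪ T8.image cls).card ≤ 2 ^ 24 := by
    rw [← hQ]
    exact Finset.card_le_univ _
  have hUeq : ((T0.image cls ∪ T4.image cls) ∪ T6.image cls ∪ T8.image cls).card =
      (T0.image cls).card + (T4.image cls).card + (T6.image cls).card + (T8.image cls).card := by
    rw [Finset.card_union_of_disjoint
        (Finset.disjoint_union_left.mpr ⟨Finset.disjoint_union_left.mpr
          ⟨hdis T0 T8 d08, hdis T4 T8 d48⟩, hdis T6 T8 d68⟩),
      Finset.card_union_of_disjoint (Finset.disjoint_union_left.mpr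
        ⟨hdis T0 T6 d06, hdis T4 T6 d46⟩),
      Finset.card_union_of_disjoint (hdis T0 T4 d04)]
  rw [hUeq] at hU
  have hpow : (2 : ℕ) ^ 24 = 16777216 := by norm_num
  rw [hpow] at hU
  refine ⟨by omega, ?_⟩
  intro h8
  have hI8 : (T8.image cls).card = 8292375 := by omega
  have hI0 : (T0.image cls).card = 1 := by omega
  have hI4 : (T4.image cls).card = 98280 := by omega
  have hI6 : (T6.image cls).card = 8386560 := by omega
  constructor
  · have huniv : (T0.image cls ∪ T4.image cls) ∪ T6.image cls ∪ T8.image cls = Finset.univ := by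
      apply Finset.eq_univ_of_card
      rw [hUeq, hQ, hpow, hI0, hI4, hI6, hI8]
    intro c
    have hc : c ∈ (T0.image cls ∪ T4.image cls) ∪ T6.image cls ∪ T8.image cls := by
      rw [huniv]
      exact Finset.mem_univ c
    rw [← Finset.image_union, ← Finset.image_union, ← Finset.image_union] at hc
    obtain ⟨x, hx, hxc⟩ := Finset.mem_image.mp hc
    exact ⟨x, hx, hxc⟩
  · intro x hx
    by_contra hcon
    have hlt : (T8.filter (fun y => cls y = cls x)).card < 48 := lt_of_le_of_ne (fib8 _) hcon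
    have hsum := Finset.card_eq_sum_card_image cls T8
    have hmem : cls x ∈ T8.image cls := Finset.mem_image.mpr ⟨x, hx, rfl⟩
    have h3 : ∑ c ∈ T8.image cls, (T8.filter (fun y => cls y = c)).card <
        ∑ _c ∈ T8.image cls, 48 :=
      Finset.sum_lt_sum (fun c _ => fib8 c) ⟨cls x, hmem, hlt⟩
    rw [Finset.sum_const, smul_eq_mul] at h3
    omega

end count

end Cfsg.Agent.Helper9.Classes
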