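import Mathlib

/-!
Short vectors of an even positive definite rank-24 form without roots, modulo twice the lattice
(Conway's counting argument).
-/

set_option autoImplicit false

namespace Cfsg.Agent.Helper9.ShortVec

/-- reduction modulo 2 -/
def red (y : Fin 24 → ℤ) : Fin 24 → ZMod 2 := fun i => (y i : ZMod 2)

theorem red_apply (y : Fin 24 → ℤ) (i : Fin 24) : red y i = (y i : ZMod 2) := rfl

theorem red_eq_iff (x y : Fin 24 → ℤ) : red x = red y ↔ ∀ i, (2 : ℤ) ∣ (x - y) i := by
  constructor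
  · intro h i
    have h1 := congrFun h i
    rw [red_apply, red_apply, ZMod.intCast_eq_intCast_iff_dvd_sub] at h1
    rw [Pi.sub_apply]
    have h2 : (2 : ℤ) ∣ y i - x i := by exact_mod_cast h1
    exact (dvd_sub_comm).mp h2
  · intro h
    funext i
    rw [red_apply, red_apply, ZMod.intCast_eq_intCast_iff_dvd_sub]
    have h1 := h i
    rw [Pi.sub_apply] at h1
    exact_mod_cast (dvd_sub_comm).mp h1

theorem red_neg (y : Fin 24 → ℤ) : red (-y) = red y := by
  rw [red_eq_iff]
  intro i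
  refine ⟨-y i, ?_⟩
  simp only [Pi.sub_apply, Pi.neg_apply]
  ring

section

variable (b : (Fin 24 → ℤ) →ₗ[ℤ] (Fin 24 → ℤ) →ₗ[ℤ] ℤ)

theorem norm_neg (y : Fin 24 → ℤ) : b (-y) (-y) = b y y := by
  simp only [map_neg, LinearMap.neg_apply, neg_neg]

variable (hsymm : ∀ x y, b x y = b y x) (hpos : ∀ x, x ≠ 0 → 0 < b x x)
  (heven : ∀ x, (2 : ℤ) ∣ b x x) (h2 : ∀ x, b x x ≠ 2)

include hpos heven h2 in
theorem norm_ge_four {x : Fin 24 → ℤ} (hx : x ≠ 0) : 4 ≤ b x x := by
  obtain ⟨k, hk⟩ := heven x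
  have h1 := hpos x hx
  have h3 := h2 x
  omega

include hsymm hpos heven h2 in
theorem key {x y : Fin 24 → ℤ} (hx : b x x ≤ 8) (hy : b y y ≤ 8) (hxy : red x = red y)
    (hne : x ≠ y) (hne' : x ≠ -y) : b x x = 8 ∧ b y y = 8 ∧ b x y = 0 := by
  have hd := (red_eq_iff x y).mp hxy
  choose z hz using hd
  have hz' : x - y = (2 : ℤ) • z := by
    funext i
    rw [hz i, Pi.smul_apply, smul_eq_mul]
  have hzne : z ≠ 0 := by
    rintro rfl
    apply hne
    rw [smul_zero] at hz'
    exact sub_eq_zero.mp hz'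
  have hw' : x + y = (2 : ℤ) • (z + y) := by
    rw [smul_add, ← hz', two_smul]
    abel
  have hwne : z + y ≠ 0 := by
    intro h
    apply hne'
    rw [h, smul_zero] at hw'
    exact eq_neg_of_add_eq_zero_left hw'
  have h1 := norm_ge_four b hpos heven h2 hzne
  have h3 := norm_ge_four b hpos heven h2 hwne
  have e1 : b (x - y) (x - y) = 4 * b z z := by
    rw [hz']
    simp only [map_smul, LinearMap.smul_apply, smul_eq_mul]
    ring
  have e2 : b (x + y) (x + y) = 4 * b (z + y) (z + y) := by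
    rw [hw']
    simp only [map_smul, LinearMap.smul_apply, smul_eq_mul]
    ring
  have e3 : b (x - y) (x - y) = b x x - 2 * b x y + b y y := by
    simp only [map_sub, LinearMap.sub_apply]
    rw [hsymm y x]
    ring
  have e4 : b (x + y) (x + y) = b x x + 2 * b x y + b y y := by
    simp only [map_add, LinearMap.add_apply]
    rw [hsymm y x]
    ring
  refine ⟨by omega, by omega, by omega⟩

include hsymm hpos heven h2 in
theorem same_norm {y y' : Fin 24 → ℤ} (hy : b y y ≤ 8) (hy' : b y' y' ≤ 8)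
    (h : red y = red y') : b y y = b y' y' := by
  by_cases h1 : y = y'
  · rw [h1]
  by_cases h3 : y = -y'
  · rw [h3, norm_neg]
  obtain ⟨e1, e2, -⟩ := key b hsymm hpos heven h2 hy hy' h h1 h3
  rw [e1, e2]

include hpos in
theorem linIndep {ι : Type*} [Fintype ι] (v : ι → Fin 24 → ℤ) (h0 : ∀ i, v i ≠ 0)
    (horth : ∀ i j, i ≠ j → b (v i) (v j) = 0) : LinearIndependent ℤ v := by
  classical
  rw [Fintype.linearIndependent_iff]
  intro g hg j
  have h1 : b (v j) (∑ i, g i • v i) = g j * b (v j) (v j) := by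
    rw [map_sum, Finset.sum_eq_single j]
    · rw [map_smul, smul_eq_mul]
    · intro i _ hij
      rw [map_smul, horth j i (Ne.symm hij), smul_zero]
    · intro h
      exact absurd (Finset.mem_univ j) h
  rw [hg, map_zero] at h1
  have h3 := hpos _ (h0 j)
  rcases mul_eq_zero.mp h1.symm with h | h
  · exact h
  · omega

include hpos in
theorem card_le_of_ortho (s : Finset (Fin 24 → ℤ)) (h0 : ∀ y ∈ s, y ≠ 0)
    (horth : ∀ y ∈ s, ∀ y' ∈ s, y ≠ y' → b y y' = 0) : s.card ≤ 24 := by
  have hli : LinearIndependent ℤ (fun y : s => (y : Fin 24 → ℤ)) := by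
    apply linIndep b hpos
    · intro i
      exact h0 i.1 i.2
    · intro i j hij
      exact horth i.1 i.2 j.1 j.2 (fun h => hij (Subtype.ext h))
  have h1 := hli.finset_card_le_finrank
  rw [Module.finrank_fin_fun] at h1
  exact h1

include hsymm hpos heven h2 in
theorem card_le_48 (s : Finset (Fin 24 → ℤ)) (h8 : ∀ y ∈ s, b y y = 8)
    (hcl : ∀ y ∈ s, ∀ y' ∈ s, red y = red y') : s.card ≤ 48 := by
  classical
  have hne0 : ∀ y ∈ s, y ≠ 0 := by
    intro y hy h
    have h1 := h8 y hy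
    rw [h] at h1
    simp only [map_zero, LinearMap.zero_apply] at h1
    omega
  have hP : (s.filter (fun y => (0 : Lex (Fin 24 → ℤ)) < toLex y)).card ≤ 24 := by
    apply card_le_of_ortho b hpos
    · intro y hy
      exact hne0 y (Finset.mem_filter.mp hy).1
    · intro y hy y' hy' hne
      rw [Finset.mem_filter] at hy hy'
      have hne' : y ≠ -y' := by
        intro h
        have h3 : toLex y = -toLex y' := by rw [h]; rfl
        have h4 := hy.2
        rw [h3, neg_pos] at h4
        exact lt_asymm h4 hy'.2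
      exact (key b hsymm hpos heven h2 (h8 y hy.1).le (h8 y' hy'.1).le
        (hcl y hy.1 y' hy'.1) hne hne').2.2
  have hN : (s.filter (fun y => toLex y < (0 : Lex (Fin 24 → ℤ)))).card ≤ 24 := by
    apply card_le_of_ortho b hpos
    · intro y hy
      exact hne0 y (Finset.mem_filter.mp hy).1
    · intro y hy y' hy' hne
      rw [Finset.mem_filter] at hy hy'
      have hne' : y ≠ -y' := by
        intro h
        have h3 : toLex y = -toLex y' := by rw [h]; rfl
        have h4 := hy.2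
        rw [h3, neg_lt_zero] at h4
        exact lt_asymm h4 hy'.2
      exact (key b hsymm hpos heven h2 (h8 y hy.1).le (h8 y' hy'.1).le
        (hcl y hy.1 y' hy'.1) hne hne').2.2
  have hsub : s ⊆ s.filter (fun y => (0 : Lex (Fin 24 → ℤ)) < toLex y) ∪
      s.filter (fun y => toLex y < (0 : Lex (Fin 24 → ℤ))) := by
    intro y hy
    have hy0 : toLex y ≠ (0 : Lex (Fin 24 → ℤ)) := by
      intro h
      exact hne0 y hy (toLex.injective h)
    rw [Finset.mem_union, Finset.mem_filter, Finset.mem_filter]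
    rcases lt_or_gt_of_ne hy0 with h | h
    · exact Or.inr ⟨hy, h⟩
    · exact Or.inl ⟨hy, h⟩
  calc s.card ≤ _ := Finset.card_le_card hsub
    _ ≤ _ := Finset.card_union_le _ _
    _ ≤ 48 := by omega

include hsymm hpos heven h2 in
theorem small_fiber (T : Finset (Fin 24 → ℤ)) (k : ℤ) (hk : k < 8) (hT : ∀ y ∈ T, b y y = k)
    (c : Fin 24 → ZMod 2) : (T.filter (fun y => red y = c)).card ≤ 2 := by
  classical
  rcases Finset.eq_empty_or_nonempty (T.filter (fun y => red y = c)) with h | ⟨y0, hy0⟩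
  · rw [h]
    simp
  · rw [Finset.mem_filter] at hy0
    have hsub : T.filter (fun y => red y = c) ⊆ {y0, -y0} := by
      intro y hy
      rw [Finset.mem_filter] at hy
      rw [Finset.mem_insert, Finset.mem_singleton]
      by_contra hcon
      rw [not_or] at hcon
      have h1 := (key b hsymm hpos heven h2 (by rw [hT y hy.1]; omega)
        (by rw [hT y0 hy0.1]; omega) (hy.2.trans hy0.2.symm) hcon.1 hcon.2).1
      rw [hT y hy.1] at h1
      omega
    exact (Finset.card_le_card hsub).trans Finset.card_le_two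

include hsymm hpos heven h2 in
theorem main_abs (h4 : {x : Fin 24 → ℤ | b x x = 4}.ncard = 196560)
    (h6 : {x : Fin 24 → ℤ | b x x = 6}.ncard = 16773120)
    (h8 : {x : Fin 24 → ℤ | b x x = 8}.ncard = 398034000)
    (x : Fin 24 → ℤ) (hx : b x x = 8) :
    {y : Fin 24 → ℤ | b y y = 8 ∧ red x = red y}.ncard = 48 := by
  classical
  have f4 : {x : Fin 24 → ℤ | b x x = 4}.Finite :=
    Set.finite_of_ncard_ne_zero (by rw [h4]; norm_num)
  have f6 : {x : Fin 24 → ℤ | b x x = 6}.Finite :=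
    Set.finite_of_ncard_ne_zero (by rw [h6]; norm_num)
  have f8 : {x : Fin 24 → ℤ | b x x = 8}.Finite :=
    Set.finite_of_ncard_ne_zero (by rw [h8]; norm_num)
  have c4 : f4.toFinset.card = 196560 := by rw [← h4, Set.ncard_eq_toFinset_card _ f4]
  have c6 : f6.toFinset.card = 16773120 := by rw [← h6, Set.ncard_eq_toFinset_card _ f6]
  have c8 : f8.toFinset.card = 398034000 := by rw [← h8, Set.ncard_eq_toFinset_card _ f8]
  have m4 : ∀ y, y ∈ f4.toFinset ↔ b y y = 4 := fun y => by
    rw [Set.Finite.mem_toFinset, Set.mem_ofPred_eq]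
  have m6 : ∀ y, y ∈ f6.toFinset ↔ b y y = 6 := fun y => by
    rw [Set.Finite.mem_toFinset, Set.mem_ofPred_eq]
  have m8 : ∀ y, y ∈ f8.toFinset ↔ b y y = 8 := fun y => by
    rw [Set.Finite.mem_toFinset, Set.mem_ofPred_eq]
  generalize f4.toFinset = T4 at c4 m4
  generalize f6.toFinset = T6 at c6 m6
  generalize f8.toFinset = T8 at c8 m8
  -- images
  have i4 : T4.card ≤ 2 * (T4.image red).card :=
    Finset.card_le_mul_card_image T4 2 (fun c _ =>
      small_fiber b hsymm hpos heven h2 T4 4 (by norm_num) (fun y hy => (m4 y).mp hy) c)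
  have i6 : T6.card ≤ 2 * (T6.image red).card :=
    Finset.card_le_mul_card_image T6 2 (fun c _ =>
      small_fiber b hsymm hpos heven h2 T6 6 (by norm_num) (fun y hy => (m6 y).mp hy) c)
  have fib8 : ∀ c, (T8.filter (fun y => red y = c)).card ≤ 48 := by
    intro c
    apply card_le_48 b hsymm hpos heven h2
    · intro y hy
      exact (m8 y).mp (Finset.mem_filter.mp hy).1
    · intro y hy y' hy'
      exact (Finset.mem_filter.mp hy).2.trans (Finset.mem_filter.mp hy').2.symm
  -- disjointness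
  have hdis : ∀ (T T' : Finset (Fin 24 → ℤ)) (k k' : ℤ), k ≤ 8 → k' ≤ 8 → k ≠ k' →
      (∀ y ∈ T, b y y = k) → (∀ y ∈ T', b y y = k') → Disjoint (T.image red) (T'.image red) := by
    intro T T' k k' hk hk' hkk hT hT'
    rw [Finset.disjoint_left]
    intro c hc hc'
    obtain ⟨y, hy, rfl⟩ := Finset.mem_image.mp hc
    obtain ⟨y', hy', hyy⟩ := Finset.mem_image.mp hc'
    have h1 := same_norm b hsymm hpos heven h2 (y := y) (y' := y') (by rw [hT y hy]; exact hk)
      (by rw [hT' y' hy']; exact hk') hyy.symm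
    rw [hT y hy, hT' y' hy'] at h1
    exact hkk h1
  have b0 : ∀ y ∈ ({0} : Finset (Fin 24 → ℤ)), b y y = 0 := by
    intro y hy
    rw [Finset.mem_singleton.mp hy]
    simp only [map_zero, LinearMap.zero_apply]
  have b4 : ∀ y ∈ T4, b y y = 4 := fun y hy => (m4 y).mp hy
  have b6 : ∀ y ∈ T6, b y y = 6 := fun y hy => (m6 y).mp hy
  have b8 : ∀ y ∈ T8, b y y = 8 := fun y hy => (m8 y).mp hy
  have d04 := hdis {0} T4 0 4 (by norm_num) (by norm_num) (by norm_num) b0 b4
  have d06 := hdis {0} T6 0 6 (by norm_num) (by norm_num) (by norm_num) b0 b6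
  have d08 := hdis {0} T8 0 8 (by norm_num) (by norm_num) (by norm_num) b0 b8
  have d46 := hdis T4 T6 4 6 (by norm_num) (by norm_num) (by norm_num) b4 b6
  have d48 := hdis T4 T8 4 8 (by norm_num) (by norm_num) (by norm_num) b4 b8
  have d68 := hdis T6 T8 6 8 (by norm_num) (by norm_num) (by norm_num) b6 b8
  have hU : ((({0} : Finset (Fin 24 → ℤ)).image red ∪ T4.image red) ∪ T6.image red ∪
      T8.image red).card ≤ 2 ^ 24 := by
    refine (Finset.card_le_univ _).trans_eq ?_
    rw [Fintype.card_fun, ZMod.card, Fintype.card_fin]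
  rw [Finset.card_union_of_disjoint
      (Finset.disjoint_union_left.mpr ⟨Finset.disjoint_union_left.mpr ⟨d08, d48⟩, d68⟩),
    Finset.card_union_of_disjoint (Finset.disjoint_union_left.mpr ⟨d06, d46⟩),
    Finset.card_union_of_disjoint d04, Finset.image_singleton, Finset.card_singleton] at hU
  have hI8 : (T8.image red).card ≤ 8292375 := by omega
  -- the fibre of x
  have hF : {y : Fin 24 → ℤ | b y y = 8 ∧ red x = red y} =
      ↑(T8.filter (fun y => red y = red x)) := by
    ext y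
    rw [Finset.mem_coe, Finset.mem_filter, m8, Set.mem_ofPred_eq]
    exact and_congr_right (fun _ => eq_comm)
  rw [hF, Set.ncard_coe_finset]
  by_contra hcon
  have hlt : (T8.filter (fun y => red y = red x)).card < 48 :=
    lt_of_le_of_ne (fib8 _) hcon
  have hsum := Finset.card_eq_sum_card_image red T8
  have hmem : red x ∈ T8.image red := Finset.mem_image.mpr ⟨x, (m8 x).mpr hx, rfl⟩
  have h3 : ∑ c ∈ T8.image red, (T8.filter (fun y => red y = c)).card <
      ∑ _c ∈ T8.image red, 48 :=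
    Finset.sum_lt_sum (fun c _ => fib8 c) ⟨red x, hmem, hlt⟩
  rw [Finset.sum_const, smul_eq_mul] at h3
  omega

end

open Matrix in
theorem main (B : Matrix (Fin 24) (Fin 24) ℤ) (hsymm : B.IsSymm)
    (hpos : ∀ x : Fin 24 → ℤ, x ≠ 0 → 0 < x ⬝ᵥ (B *ᵥ x))
    (heven : ∀ x : Fin 24 → ℤ, (2 : ℤ) ∣ x ⬝ᵥ (B *ᵥ x))
    (h2 : ∀ x : Fin 24 → ℤ, x ⬝ᵥ (B *ᵥ x) ≠ 2)
    (h4 : {x : Fin 24 → ℤ | x ⬝ᵥ (B *ᵥ x) = 4}.ncard = 196560)
    (h6 : {x : Fin 24 → ℤ | x ⬝ᵥ (B *ᵥ x) = 6}.ncard = 16773120)
    (h8 : {x : Fin 24 → ℤ | x ⬝ᵥ (B *ᵥ x) = 8}.ncard = 398034000)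
    (x : Fin 24 → ℤ) (hx : x ⬝ᵥ (B *ᵥ x) = 8) :
    {y : Fin 24 → ℤ | y ⬝ᵥ (B *ᵥ y) = 8 ∧ ∀ i, (2 : ℤ) ∣ (x - y) i}.ncard = 48 := by
  have e : ∀ x y : Fin 24 → ℤ, Matrix.toLinearMap₂' ℤ B x y = x ⬝ᵥ (B *ᵥ y) :=
    Matrix.toLinearMap₂'_apply' B
  have hs : ∀ x y : Fin 24 → ℤ, Matrix.toLinearMap₂' ℤ B x y = Matrix.toLinearMap₂' ℤ B y x := by
    intro x y
    rw [e, e, dotProduct_mulVec, dotProduct_comm, ← mulVec_transpose, hsymm.eq]
  have h := main_abs (Matrix.toLinearMap₂' ℤ B) hs (by simpa only [e] using hpos)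
    (by simpa only [e] using heven) (by simpa only [e] using h2) (by simpa only [e] using h4)
    (by simpa only [e] using h6) (by simpa only [e] using h8) x (by simpa only [e] using hx)
  simpa only [e, red_eq_iff] using h

end Cfsg.Agent.Helper9.ShortVec
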